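import Groth.Agent.S16185
import Mathlib.RingTheory.LocalRing.ResidueField.Basic
import Mathlib.RingTheory.PrincipalIdealDomain
import Mathlib.RingTheory.HopkinsLevitzki
import Mathlib.Topology.Irreducible

/-!
Flat schemes over Artinian local rings with Gorenstein equidimensional closed fibre.
-/

set_option autoImplicit false
set_option linter.style.haveILetI false
set_option maxHeartbeats 800000
set_option backward.isDefEq.respectTransparency false
set_option backward.isDefEq.respectTransparency.types false

universe u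

open CategoryTheory CategoryTheory.Limits AlgebraicGeometry

noncomputable section

namespace Groth.L10.DeformDual

theorem isMaximal_ker {A k : Type u} [CommRing A] [Field k] (φ : A →+* k) (h : Function.Surjective φ) :
    (RingHom.ker φ).IsMaximal := RingHom.ker_isMaximal_of_surjective φ h

theorem props {A k : Type u} [CommRing A] [IsArtinianRing A] [IsLocalRing A] [Field k] (φ : A →+* k)
    (hφ : Function.Surjective φ) {P X : Scheme.{u}} (f : P ⟶ Spec (CommRingCat.of A)) [Flat f]
    (i : X ⟶ P) (q : X ⟶ Spec (CommRingCat.of k))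
    (hsq : IsPullback i q f (Spec.map (CommRingCat.ofHom φ))) (hX : Dual3.IsGorenstein X) (n : ℕ)
    (hequi : ∀ Z ∈ irreducibleComponents (X : Type u), topologicalKrullDim Z = n) :
    Dual3.IsGorensteinMor f ∧ ∀ (y : Spec (CommRingCat.of A)) (Z : Set ↥(f.fiber y)),
      Z ∈ irreducibleComponents ↥(f.fiber y) → topologicalKrullDim ↥Z = (n : WithBot ℕ∞) := by
  haveI : IsLocalHom φ := hφ.isLocalHom φ
  let ψ := IsLocalRing.ResidueField.lift φ
  have hψ : Function.Bijective ψ := ⟨ψ.injective, fun c => by
    obtain ⟨a, rfl⟩ := hφ c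
    exact ⟨IsLocalRing.residue A a, rfl⟩⟩
  let eψ : CommRingCat.of (IsLocalRing.ResidueField A) ≅ CommRingCat.of k :=
    (RingEquiv.ofBijective ψ hψ).toCommRingCatIso
  have hcomp : CommRingCat.ofHom φ = CommRingCat.ofHom (IsLocalRing.residue A) ≫ eψ.hom := rfl
  have hsq' : IsPullback i (q ≫ Spec.map eψ.hom) f (Spec.map (CommRingCat.ofHom (IsLocalRing.residue A))) :=
    hsq.of_iso (Iso.refl _) (Iso.refl _) (asIso (Spec.map eψ.hom)) (Iso.refl _) (by simp) (by simp) (by simp)
      (by rw [hcomp, Spec.map_comp]; simp)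
  refine ⟨Groth.Agent.S16185.result f i _ hsq' hX, fun y Z hZ => ?_⟩
  haveI : Subsingleton (Spec (CommRingCat.of A)) := ⟨fun a b => by
    have ha := IsLocalRing.eq_maximalIdeal (inferInstance : a.asIdeal.IsMaximal)
    have hb := IsLocalRing.eq_maximalIdeal (inferInstance : b.asIdeal.IsMaximal)
    exact PrimeSpectrum.ext (ha.trans hb.symm)⟩
  haveI : IsClosedImmersion (Spec.map (CommRingCat.ofHom φ)) := IsClosedImmersion.spec_of_surjective _ hφ
  haveI : IsClosedImmersion i := MorphismProperty.of_isPullback hsq.flip inferInstance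
  haveI : Nonempty ↥(Spec (CommRingCat.of k)) := inferInstanceAs (Nonempty (PrimeSpectrum k))
  haveI : Surjective (Spec.map (CommRingCat.ofHom φ)) :=
    ⟨fun p => ⟨Classical.arbitrary _, Subsingleton.elim _ _⟩⟩
  haveI : Surjective i := MorphismProperty.of_isPullback hsq.flip inferInstance
  have hi : IsHomeomorph i := (Topology.IsEmbedding.toHomeomorphOfSurjective i.isClosedEmbedding.isEmbedding
    i.surjective).isHomeomorph
  have hr : Function.Surjective (f.fiberι y) := fun p => by
    have : p ∈ Set.range (f.fiberι y) := by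
      rw [Scheme.Hom.range_fiberι]; exact Subsingleton.elim _ _
    exact this
  let hF : ↥(f.fiber y) ≃ₜ (X : Type u) :=
    (Topology.IsEmbedding.toHomeomorphOfSurjective (f.fiberι y).isEmbedding hr).trans
      (Topology.IsEmbedding.toHomeomorphOfSurjective i.isClosedEmbedding.isEmbedding i.surjective).symm
  have hZ' : hF.symm ⁻¹' Z ∈ irreducibleComponents (X : Type u) :=
    preimage_mem_irreducibleComponents hZ hF.symm.isOpenEmbedding
      (by rw [hF.symm.surjective.range_eq, Set.inter_univ]; exact hZ.1.1)
  have e : ↥Z ≃ₜ ↥(hF.symm ⁻¹' Z) := (hF.image Z).trans (Homeomorph.setCongr (by rw [Homeomorph.image_eq_preimage_symm]))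
  rw [e.isHomeomorph.topologicalKrullDim_eq, hequi _ hZ']

end Groth.L10.DeformDual
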