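import Groth.Agent.L10.ShriekLoc.Gor
import Groth.Agent.L10.ShriekLoc.CM
import Groth.Agent.L10.DerTrunc
import Groth.Agent.L18.RelAmpleLocal
import Groth.Agent.L29.RelPC.Module

/-!
For a proper flat Gorenstein morphism of relative dimension `d` to a Noetherian scheme, `f^! O` is an
invertible module in degree `-d`.
-/

set_option autoImplicit false
set_option linter.style.haveILetI false
set_option maxHeartbeats 1600000
set_option maxSynthPendingDepth 4
set_option backward.defeqAttrib.useBackward true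
set_option backward.isDefEq.respectTransparency false
set_option backward.isDefEq.respectTransparency.types false

universe u

open CategoryTheory CategoryTheory.Limits AlgebraicGeometry

attribute [local instance] HasDerivedCategory.standard

noncomputable section

namespace Groth.L10.DeformDual

open Groth.L00 Groth.L29 Groth.L29.DC

variable {X Y : Scheme.{u}}

/-- cohomology of a shifted module -/
def hdShift (M : X.Modules) (d i : ℤ) :
    DCoh.HD ((DCoh.inD X M)⟦d⟧) i ≅ DCoh.HD (DCoh.inD X M) (d + i) :=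
  ((DerivedCategory.homologyFunctor X.Modules 0).shiftIso d i (d + i) rfl).app _

theorem isZero_hdShift (M : X.Modules) (d i : ℤ) (h : d + i ≠ 0) :
    IsZero (DCoh.HD ((DCoh.inD X M)⟦d⟧) i) :=
  (Groth.L29.RelPC.isZero_HD_inD h).of_iso (hdShift M d i)

theorem nonempty_hd_neg (M : X.Modules) (d : ℤ) :
    Nonempty (DCoh.HD ((DCoh.inD X M)⟦d⟧) (-d) ≅ M) := by
  obtain ⟨e⟩ := Groth.L29.RelPC.nonempty_HD0_inD M
  exact ⟨((DerivedCategory.homologyFunctor X.Modules 0).shiftIso d (-d) 0 (by omega)).app _ ≪≫ e⟩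

theorem exists_invertible_single [IsNoetherian Y] (f : X ⟶ Y) [IsProper f] [Flat f] [DCoh.HasRpush f]
    {hf : DCoh.RpushPreservesQCoh f} {a : DCoh.DQCoh Y ⥤ DCoh.DQCoh X} (adj : DCoh.RpushQ f hf ⊣ a)
    (O : DCoh.DQCoh Y) (hO : Nonempty (O.obj ≅ DCoh.inD Y (Coh.structureModule Y)))
    (hG : Dual3.IsGorensteinMor f) (d : ℕ)
    (hd : ∀ (y : Y) (Z : Set ↥(f.fiber y)), Z ∈ irreducibleComponents ↥(f.fiber y) →
      topologicalKrullDim ↥Z = (d : WithBot ℕ∞)) :
    ∃ L : X.Modules, PicF.IsInvertible L ∧ Nonempty ((a.obj O).obj ≅ (DCoh.inD X L)⟦(d : ℤ)⟧) := by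
  haveI := fun {A B : Scheme.{u}} (k : A ⟶ B) => KFlat.hasLpull k
  haveI hP : ∀ (U V : Scheme.{u}) (j : U ⟶ V) [IsOpenImmersion j],
      PreservesFiniteLimits (Scheme.Modules.restrictFunctor j) := fun U V j _ => inferInstance
  let c : DEt.Compactification f := ⟨X, 𝟙 X, f, inferInstance, inferInstance, Category.id_comp f⟩
  haveI : DCoh.HasRpush c.fbar := ‹DCoh.HasRpush f›
  let S := (DCoh.restrictD (𝟙 X)).obj (a.obj O).obj
  obtain ⟨r⟩ := nonempty_Lpull_iso_restrictD (𝟙 X) (a.obj O).obj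
  obtain ⟨l⟩ := Groth.L10.FMDiag.nonempty_Lpull_id (X := X)
  let eS : S ≅ (a.obj O).obj := r.symm ≪≫ l.app _
  -- locally a shift of `O`
  have hloc : ∀ x : X, ∃ (U : X.Opens) (x' : U.toScheme) (U' : U.toScheme.Opens) (m : ℤ), U.ι x' = x ∧ x' ∈ U' ∧
      Nonempty ((DCoh.restrictD U'.ι).obj ((DCoh.restrictD U.ι).obj S) ≅
        (DCoh.inD (U' : Scheme.{u}) (Coh.structureModule (U' : Scheme.{u})))⟦m⟧) := fun x => by
    obtain ⟨U, hx, hU⟩ := ShriekLoc.exists_invertible c adj O hO x (hG x)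
    obtain ⟨U', m, hx', e⟩ := hU ⟨x, hx⟩
    exact ⟨U, ⟨x, hx⟩, U', m, rfl, hx', e⟩
  -- vanishing outside `-d`
  have hpt : ∀ x : X, (∀ i : ℤ, i ≠ -(d : ℤ) → ¬ Nontrivial ((DCoh.HD S i).presheaf.stalk x)) ∧
      Nontrivial ((DCoh.HD S (-(d : ℤ))).presheaf.stalk x) := fun x => by
    obtain ⟨U, x', U', m, rfl, hx', ⟨e⟩⟩ := hloc x
    have hz : ∀ i : ℤ, i ≠ -m → ∀ y ∈ U.ι ''ᵁ U', ¬ Nontrivial ((DCoh.HD S i).presheaf.stalk y) := by
      rintro i hi _ ⟨y', hy', rfl⟩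
      have h0 : IsZero (DCoh.HD ((DCoh.restrictD U'.ι).obj ((DCoh.restrictD U.ι).obj S)) i) :=
        (isZero_hdShift _ m i (by omega)).of_iso ((DerivedCategory.homologyFunctor _ i).mapIso e)
      have h1 : IsZero (((DCoh.HD S i).restrict U.ι).restrict U'.ι) :=
        h0.of_iso ((HDResIso U'.ι _ i).trans
          ((Scheme.Modules.restrictFunctor U'.ι).mapIso (HDResIso U.ι S i))).symm
      haveI := (Groth.L21.Mod.isZero_iff_stalk_subsingleton _).1 h1 ⟨y', hy'⟩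
      exact not_nontrivial_iff_subsingleton.2
        ((ShriekLoc.stalkEquiv U'.ι _ ⟨y', hy'⟩).trans (ShriekLoc.stalkEquiv U.ι _ y')).symm.toEquiv.subsingleton
    have hCM : MoreMor.IsCMAt f (U.ι x') :=
      ShriekLoc.isCMAt_of_single c adj O hO (U.ι ''ᵁ U') (-m) (U.ι x') ⟨x', hx', rfl⟩ hz
    obtain ⟨d', C, ⟨z, hzx⟩, hC⟩ := ShriekLoc.exists_chart_single c adj O hO (U.ι x') hCM
    obtain ⟨hfd, hv, hnt, -⟩ := hC z
    have hle := ShriekLoc.localFibreDim_le_of_components hd (C.jU z)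
    have hge := ShriekLoc.le_localFibreDim hd (C.jU z)
    rw [hfd] at hle hge
    obtain rfl : d = d' := le_antisymm (by exact_mod_cast hge) (by exact_mod_cast hle)
    rw [hzx] at hv hnt
    exact ⟨hv, hnt⟩
  haveI hge : S.IsGE (-(d : ℤ)) := (DerivedCategory.isGE_iff S _).2 fun i hi =>
    (Groth.L21.Mod.isZero_iff_stalk_subsingleton _).2 fun x =>
      not_nontrivial_iff_subsingleton.1 ((hpt x).1 i (by omega))
  haveI hle : S.IsLE (-(d : ℤ)) := (DerivedCategory.isLE_iff S _).2 fun i hi =>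
    (Groth.L21.Mod.isZero_iff_stalk_subsingleton _).2 fun x =>
      not_nontrivial_iff_subsingleton.1 ((hpt x).1 i (by omega))
  obtain ⟨e₀⟩ := Groth.L10.exists_iso_single_H (A := X.Modules) S (-(d : ℤ))
  let L := DCoh.HD S (-(d : ℤ))
  refine ⟨L, Groth.L18.Ample.isInvertible_of_cover fun x => ?_, ⟨eS.symm ≪≫ e₀ ≪≫
    (((DerivedCategory.singleFunctors X.Modules).shiftIso (d : ℤ) (-(d : ℤ)) 0 (by omega)).app L).symm⟩⟩
  obtain ⟨U, hx, hU⟩ := ShriekLoc.exists_invertible c adj O hO x (hG x)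
  refine ⟨U, hx, fun y => ?_⟩
  obtain ⟨U', m, hy, ⟨e⟩⟩ := hU y
  obtain ⟨s⟩ : Nonempty ((L.restrict U.ι).restrict U'.ι ≅
      DCoh.HD ((DCoh.inD (U' : Scheme.{u}) (Coh.structureModule (U' : Scheme.{u})))⟦m⟧) (-(d : ℤ))) :=
    ⟨((Scheme.Modules.restrictFunctor U'.ι).mapIso (HDResIso U.ι S _)).symm ≪≫ (HDResIso U'.ι _ _).symm ≪≫
      (DerivedCategory.homologyFunctor _ _).mapIso e⟩
  have hm : m = (d : ℤ) := by
    by_contra hne
    haveI := (Groth.L21.Mod.isZero_iff_stalk_subsingleton _).1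
      ((isZero_hdShift _ m (-(d : ℤ)) (by omega)).of_iso s) ⟨y, hy⟩
    exact not_subsingleton_iff_nontrivial.2 (hpt (U.ι y)).2
      ((ShriekLoc.stalkEquiv U'.ι _ ⟨y, hy⟩).trans (ShriekLoc.stalkEquiv U.ι L y)).symm.toEquiv.subsingleton
  subst hm
  obtain ⟨t⟩ := nonempty_hd_neg (Coh.structureModule (U' : Scheme.{u})) (d : ℤ)
  exact ⟨U', hy, ⟨s ≪≫ t⟩⟩

end Groth.L10.DeformDual
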