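import Groth.Agent.S3602
import Groth.Agent.S3658
import Groth.Agent.L10.FMBC.ModKernel
import Groth.Agent.L10.ShriekLoc.EndAffine
import Groth.Agent.L10.ShriekLoc.OpenBC
import Groth.Agent.Lead.FlatPerfectCx
import Groth.Agent.Lead.FlatPerfect
import Groth.Agent.L17.ClosedPush
import Groth.Agent.L10.DeformDual.Single

/-!
The dualizing module of a proper flat morphism along a closed immersion of the base.
-/

set_option autoImplicit false
set_option linter.style.haveILetI false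
set_option maxHeartbeats 1600000
set_option maxSynthPendingDepth 4
set_option backward.defeqAttrib.useBackward true
set_option backward.isDefEq.respectTransparency false
set_option backward.isDefEq.respectTransparency.types false

universe u

open CategoryTheory CategoryTheory.Limits AlgebraicGeometry

attribute [local instance] HasDerivedCategory.standard

noncomputable section

namespace Groth.L10.DeformDual

open Groth.L00 Groth.L29 Groth.L29.DC

/-- `E⟦n⟧ ⊗ -` on a module in degree zero -/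
theorem nonempty_lt_S0_shift {X : Scheme.{u}} (L : X.Modules) (n : ℤ) (Z : DCoh.D X)
    [DCoh.HasLTensorCx ((Groth.Lead.LTMod.S0 L)⟦n⟧)] [DCoh.HasLTensorMod L] :
    Nonempty ((DCoh.LTensorCx ((Groth.Lead.LTMod.S0 L)⟦n⟧)).obj Z ≅ ((DCoh.LTensorMod L).obj Z)⟦n⟧) := by
  haveI := fun (E : CochainComplex X.Modules ℤ) => KFlat.hasLTensorCx E
  obtain ⟨P, q, hP, -, hq, -⟩ := Groth.L00.KFlat.exists_resolution (DerivedCategory.Q.objPreimage Z)
  haveI := (DerivedCategory.isIso_Q_map_iff_quasiIso _ q).2 hq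
  let e : DCoh.toD X P ≅ Z := asIso (DerivedCategory.Q.map q) ≪≫ DerivedCategory.Q.objObjPreimageIso Z
  obtain ⟨c₁⟩ := Groth.Lead.FlatPerfect.nonempty_LTensorCx_comm ((Groth.Lead.LTMod.S0 L)⟦n⟧) P hP
  obtain ⟨s⟩ := Groth.Lead.FlatPerfect.nonempty_LTensorCx_shift P hP (Groth.Lead.LTMod.S0 L) n
  obtain ⟨c₂⟩ := Groth.Lead.FlatPerfect.nonempty_LTensorCx_comm (Groth.Lead.LTMod.S0 L) P hP
  exact ⟨(DCoh.LTensorCx _).mapIso e.symm ≪≫ c₁ ≪≫ s ≪≫ (shiftFunctor _ n).mapIso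
    (c₂.symm ≪≫ (DCoh.LTensorCx _).mapIso e ≪≫ ((Groth.Lead.LTMod.iso L).app Z).symm)⟩

/-- `O ⊗ M` -/
theorem nonempty_ltm_OD {X : Scheme.{u}} (M : X.Modules) [DCoh.HasLTensorMod M] :
    Nonempty ((DCoh.LTensorMod M).obj (DCoh.inD X (Coh.structureModule X)) ≅ DCoh.inD X M) := by
  haveI := KFlat.hasLTensorCx (Groth.Lead.LTMod.S0 M)
  obtain ⟨t⟩ := ShriekLoc.nonempty_LTensor_OD_shift (Groth.Lead.LTMod.S0 M) 0
  exact ⟨(Groth.Lead.LTMod.iso M).app _ ≪≫
    (DCoh.LTensorCx _).mapIso ((shiftFunctorZero (DCoh.D X) ℤ).app _).symm ≪≫ t ≪≫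
    (shiftFunctorZero (DCoh.D X) ℤ).app _ ≪≫ ((DerivedCategory.singleFunctorIsoCompQ X.Modules 0).app M).symm⟩

theorem nonempty_trans {X Y X' Y' : Scheme.{u}} (f : X ⟶ Y) (g : Y' ⟶ Y) (f' : X' ⟶ Y') (g' : X' ⟶ X)
    (hsq : IsPullback g' f' f g) [IsProper f] [Flat f] [IsNoetherian Y] [IsClosedImmersion g]
    [DCoh.HasRpush f] [DCoh.HasRpush f'] {hf : DCoh.RpushPreservesQCoh f} {hf' : DCoh.RpushPreservesQCoh f'}
    {a : DCoh.DQCoh Y ⥤ DCoh.DQCoh X} {a' : DCoh.DQCoh Y' ⥤ DCoh.DQCoh X'}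
    (adj : DCoh.RpushQ f hf ⊣ a) (adj' : DCoh.RpushQ f' hf' ⊣ a')
    (O : DCoh.DQCoh Y) (hO : Nonempty (O.obj ≅ DCoh.inD Y (Coh.structureModule Y)))
    (O' : DCoh.DQCoh Y') (hO' : Nonempty (O'.obj ≅ DCoh.inD Y' (Coh.structureModule Y')))
    {L : X.Modules} (hL : PicF.IsInvertible L) {L' : X'.Modules} (hL' : PicF.IsInvertible L') (n : ℤ)
    (eL : Nonempty ((a.obj O).obj ≅ (DCoh.inD X L)⟦n⟧))
    (eL' : Nonempty ((a'.obj O').obj ≅ (DCoh.inD X' L')⟦n⟧)) :
    Nonempty ((Scheme.Modules.pullback g').obj L ≅ L') := by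
  haveI := fun {A B : Scheme.{u}} (k : A ⟶ B) => RpushQC.hasRpush k
  haveI := fun {A B : Scheme.{u}} (k : A ⟶ B) => KFlat.hasLpull k
  haveI := fun {V : Scheme.{u}} (E : CochainComplex V.Modules ℤ) => KFlat.hasLTensorCx E
  haveI := fun {V : Scheme.{u}} (M : V.Modules) => DerivedApi.hasLTensorMod M
  haveI : IsClosedImmersion g' := MorphismProperty.of_isPullback hsq.flip inferInstance
  haveI : IsProper f' := MorphismProperty.of_isPullback hsq inferInstance
  haveI : LocallyOfFinitePresentation f := LocallyOfFinitePresentation.iff_locallyOfFiniteType.mpr inferInstance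
  haveI : CompactSpace X := QuasiCompact.compactSpace_of_compactSpace f
  haveI : QuasiSeparatedSpace X := quasiSeparatedSpace_of_quasiSeparated f
  haveI : CompactSpace Y' := QuasiCompact.compactSpace_of_compactSpace g
  haveI : QuasiSeparatedSpace Y' := quasiSeparatedSpace_of_quasiSeparated g
  haveI : CompactSpace X' := QuasiCompact.compactSpace_of_compactSpace g'
  haveI : QuasiSeparatedSpace X' := quasiSeparatedSpace_of_quasiSeparated g'
  obtain ⟨eL⟩ := eL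
  obtain ⟨eL'⟩ := eL'
  -- `ξ`
  obtain ⟨e, hξ⟩ := Groth.Agent.S3602.result X Y X' Y' f g f' g' hsq (Or.inl inferInstance) hf hf'
    (ShriekLoc.isQCohD_push g) (ShriekLoc.isQCohD_push g') a a' adj adj'
  let Z := (DCoh.Rpush g).obj O'.obj
  let ξ : (DCoh.Rpush g').obj (a'.obj O').obj ≅
      (a.obj ((DCoh.RpushQ g (ShriekLoc.isQCohD_push g)).obj O')).obj :=
    (ObjectProperty.ι _).mapIso (@asIso _ _ _ _ _ (hξ O'))
  -- `a ≅ Lf^*(-) ⊗ a(O)`
  let E : CochainComplex X.Modules ℤ := (Groth.Lead.LTMod.S0 L)⟦n⟧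
  let eE : DCoh.toD X E ≅ (a.obj O).obj :=
    (DerivedCategory.Q.commShiftIso n).app (Groth.Lead.LTMod.S0 L) ≪≫
      (shiftFunctor _ n).mapIso ((DerivedCategory.singleFunctorIsoCompQ X.Modules 0).app L).symm ≪≫ eL.symm
  obtain ⟨T⟩ := Groth.Agent.S3658.result X Y f hf a adj O hO E ⟨eE⟩
  -- flat base change
  have hBC := Groth.L10.FMBC.bc_of_flat_or hsq.flip (Or.inr ‹Flat f›)
  haveI := hBC O'.obj O'.property
  let b : (DCoh.Lpull f).obj Z ≅ (DCoh.Rpush g').obj ((DCoh.Lpull f').obj O'.obj) :=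
    @asIso _ _ _ _ _ (hBC O'.obj O'.property)
  obtain ⟨o⟩ := hO'
  obtain ⟨p⟩ := Groth.L29.BCAdj.nonempty_Lpull_OD f'
  obtain ⟨s⟩ := nonempty_lt_S0_shift L n ((DCoh.Rpush g').obj (DCoh.inD X' (Coh.structureModule X')))
  -- projection formula
  obtain ⟨τ, hτ⟩ := Groth.L10.FMBC.exists_projectionMod g' hL
  have hOq : DCoh.IsQCohD (DCoh.inD X' (Coh.structureModule X')) := Groth.L29.RelPC.isQCohD_unit X'
  let pf := @asIso _ _ _ _ _ (hτ _ hOq)
  obtain ⟨u⟩ := nonempty_ltm_OD ((Scheme.Modules.pullback g').obj L)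
  have hLp := Groth.L18.Ample.isInvertible_pullback g' hL
  haveI : Coh.IsQCoh L' := PCQCoh.isQCoh_of_isFinLocFree (Groth.L10.FMBC.isFinLocFree_of_invertible hL')
  haveI : Coh.IsQCoh ((Scheme.Modules.pullback g').obj L) :=
    PCQCoh.isQCoh_of_isFinLocFree (Groth.L10.FMBC.isFinLocFree_of_invertible hLp)
  obtain ⟨r₁⟩ := Groth.Lead.FlatPerfect.nonempty_Rpush_single g' L'
  obtain ⟨r₂⟩ := Groth.Lead.FlatPerfect.nonempty_Rpush_single g' ((Scheme.Modules.pullback g').obj L)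
  haveI := RpushColim.additive_Rpush g'
  letI := Gen.commShiftRpush g'
  let main : (DCoh.inD X ((Scheme.Modules.pushforward g').obj L'))⟦n⟧ ≅
      (DCoh.inD X ((Scheme.Modules.pushforward g').obj ((Scheme.Modules.pullback g').obj L)))⟦n⟧ :=
    (shiftFunctor _ n).mapIso r₁.symm ≪≫ ((DCoh.Rpush g').commShiftIso n).symm.app _ ≪≫
      (DCoh.Rpush g').mapIso eL'.symm ≪≫ ξ ≪≫ T.app _ ≪≫
      (DCoh.LTensorCx E).mapIso (b ≪≫ (DCoh.Rpush g').mapIso ((DCoh.Lpull f').mapIso o ≪≫ p)) ≪≫ s ≪≫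
      (shiftFunctor _ n).mapIso (pf ≪≫ (DCoh.Rpush g').mapIso u ≪≫ r₂)
  obtain ⟨h₁⟩ := nonempty_hd_neg ((Scheme.Modules.pushforward g').obj L') n
  obtain ⟨h₂⟩ := nonempty_hd_neg ((Scheme.Modules.pushforward g').obj ((Scheme.Modules.pullback g').obj L)) n
  let w := h₁.symm ≪≫ (DerivedCategory.homologyFunctor X.Modules (-n)).mapIso main ≪≫ h₂
  haveI := Groth.L17.ClosedPush.isIso_counit g'
  let cu := asIso (Scheme.Modules.pullbackPushforwardAdjunction g').counit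
  exact ⟨(cu.app _).symm ≪≫ (Scheme.Modules.pullback g').mapIso w.symm ≪≫ cu.app L'⟩

end Groth.L10.DeformDual
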